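import Mathlib

/-!
S5242, sections 1, 3, 4 of tools/plans/S5242-helper45.md: the abstract frame (helper480).

`L` is a finite group, `A` a central subgroup of order `p`, `S` a Sylow `p`-subgroup containing `A`.  All subgroups are
subgroups of `L`; "bar" (mod `A`) is never formed: `P̄` abelian is `∀ x y ∈ P, ⁅x, y⁆ ∈ A` etc.  The values of the
homomorphisms are in an additive group `M` (`Additive ↥A` in phase 1), and a homomorphism on `P` is a FUNCTION on `L`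
which is additive on `P` (`HomOn`).
-/

set_option autoImplicit false

namespace Cfsg.Agent.H480.Lk

open scoped commutatorElement IsMulCommutative

variable {L : Type*} [Group L] {M : Type*} [AddCommGroup M]

/-- `g P g⁻¹` -/
def cj (g : L) (P : Subgroup L) : Subgroup L := P.map (MulAut.conj g).toMonoidHom

/-- `S ∩ g⁻¹ S g` -/
def Tg (S : Subgroup L) (g : L) : Subgroup L := S ⊓ cj g⁻¹ S

/-- `f` is a homomorphism on `P` -/
def HomOn (P : Subgroup L) (f : L → M) : Prop := ∀ x ∈ P, ∀ y ∈ P, f (x * y) = f x + f y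

/-- `P` is fully normalized: `N_S(P)` is as large as possible (hence Sylow in `N_L(P)`, see `exists_fn`) -/
def FN (S P : Subgroup L) : Prop :=
  ∀ g : L, cj g P ≤ S → Nat.card ↥(S ⊓ Subgroup.normalizer (cj g P : Set L)) ≤
    Nat.card ↥(S ⊓ Subgroup.normalizer (P : Set L))

/-- the family of the subgroups `A ≤ P ≤ S` which are centric modulo `A` -/
def Cen (A S : Subgroup L) : Set (Subgroup L) :=
  {P | A ≤ P ∧ P ≤ S ∧ ∀ g : L, cj g P ≤ S → ∀ z ∈ S, (∀ x ∈ cj g P, ⁅z, x⁆ ∈ A) → z ∈ cj g P}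

/-- a family of subgroups of `S`, closed under overgroups in `S` and conjugation -/
structure Fam (S : Subgroup L) (Q : Set (Subgroup L)) : Prop where
  le : ∀ {P}, P ∈ Q → P ≤ S
  up : ∀ {P R}, P ∈ Q → P ≤ R → R ≤ S → R ∈ Q
  conj : ∀ {P}, P ∈ Q → ∀ g : L, cj g P ≤ S → cj g P ∈ Q

/-- a cocycle on the family `Q`: `c g` is a homomorphism on `T_g`, `c(hg) = c(g) + g^* c(h)`, `c(s) = 0` for `s ∈ S` -/
structure Coc (S : Subgroup L) (Q : Set (Subgroup L)) (c : L → L → M) : Prop where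
  hom : ∀ {g}, Tg S g ∈ Q → HomOn (Tg S g) (c g)
  mul : ∀ {g h P}, P ∈ Q → P ≤ Tg S g → P ≤ Tg S (h * g) → ∀ x ∈ P, c (h * g) x = c g x + c h (g * x * g⁻¹)
  one : ∀ {s}, s ∈ S → S ∈ Q → ∀ x ∈ S, c s x = 0

/-! ### Phase 1 -/

/-- `K(P)`: the commutator homomorphisms `x ↦ ⁅z, x⁆` of the elements `z ∈ P` central modulo `A` -/
def KK (A P : Subgroup L) (k : L → Additive ↥A) : Prop := ∃ z ∈ P, ∀ x ∈ P, ((k x).toMul : L) = ⁅z, x⁆

/-- the abstract properties of the cosets `d(g, P)` of `K(P)` in `V(P) = Hom(P/A, A)`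
(`d g P h` : `x ↦ g x g⁻¹ h(x)`, on `P`, is a map of the other fusion system `F₁`). -/
structure DSys (A S : Subgroup L) [IsMulCommutative ↥A] (d : L → Subgroup L → (L → Additive ↥A) → Prop) : Prop where
  hom : ∀ {g P h}, P ∈ Cen A S → d g P h → HomOn P h
  triv : ∀ {g P h}, P ∈ Cen A S → d g P h → ∀ a ∈ A, h a = 0
  congr : ∀ {g P h h'}, P ∈ Cen A S → d g P h → (∀ x ∈ P, h x = h' x) → d g P h'
  mono : ∀ {g P R h}, R ∈ Cen A S → R ≤ P → P ≤ S → d g P h → d g R h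
  mul : ∀ {g g' P h h'}, P ∈ Cen A S → cj g P ≤ S → d g P h → d g' (cj g P) h' →
    d (g' * g) P (fun x => h x + h' (g * x * g⁻¹))
  ex : ∀ {g P}, P ∈ Cen A S → cj g P ≤ S → ∃ h, d g P h
  one : ∀ {s P}, P ∈ Cen A S → s ∈ S → d s P (fun _ => 0)
  sub : ∀ {g P h h'}, P ∈ Cen A S → d g P h → d g P h' → KK A P (fun x => h x - h' x)
  add : ∀ {g P h k}, P ∈ Cen A S → d g P h → KK A P k → d g P (fun x => h x + k x)

/-- (MOD) of the plan -/
def MOD (A S : Subgroup L) [IsMulCommutative ↥A] (d : L → Subgroup L → (L → Additive ↥A) → Prop) : Prop :=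
  ∀ X ∈ Cen A S, FN S X → ∃ v : L → Additive ↥A, HomOn (S ⊓ Subgroup.normalizer (X : Set L)) v ∧ (∀ a ∈ A, v a = 0) ∧
    ∀ n ∈ Subgroup.normalizer (X : Set L), ∀ P : Subgroup L, X ≤ P → P ≤ S ⊓ Subgroup.normalizer (X : Set L) →
      cj n P ≤ S → d n P (fun x => v (n * x * n⁻¹) - v x)

/-! ### The Thompson subgroup modulo `A` -/

/-- `B/A` is abelian -/
def AbA (A B : Subgroup L) : Prop := A ≤ B ∧ ∀ x ∈ B, ∀ y ∈ B, ⁅x, y⁆ ∈ A

/-- the maximal order of a subgroup `A ≤ B ≤ P` with `B/A` abelian -/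
noncomputable def dA (A P : Subgroup L) : ℕ := sSup {n | ∃ B : Subgroup L, AbA A B ∧ B ≤ P ∧ Nat.card B = n}

/-- the (preimage of the) Thompson subgroup of `P/A` -/
noncomputable def JA (A P : Subgroup L) : Subgroup L := sSup {B | AbA A B ∧ B ≤ P ∧ Nat.card B = dA A P}

/-- the family of the LOCAL THEOREM in case A: `X ≤ R ≤ N_S(X)` and `R/A` contains an abelian subgroup not in `X/A` of
order at least `d(X/A)` -/
def QfA (A S X : Subgroup L) : Set (Subgroup L) :=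
  {R | X ≤ R ∧ R ≤ S ⊓ Subgroup.normalizer (X : Set L) ∧
    ∃ B : Subgroup L, AbA A B ∧ B ≤ R ∧ ¬ B ≤ X ∧ dA A X ≤ Nat.card B}

/-- **target of the LOCAL THEOREM + application (case A)**: every `K`-valued cocycle on `QfA` for the group `N_L(X)` is
the coboundary of a commutator homomorphism. -/
def CaseA (A S : Subgroup L) [IsMulCommutative ↥A] : Prop :=
  ∀ X ∈ Cen A S, JA A X = X → FN S X → ∀ k : L → L → Additive ↥A,
    (∀ n ∈ Subgroup.normalizer (X : Set L), Tg S n ⊓ Subgroup.normalizer (X : Set L) ∈ QfA A S X →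
      KK A (Tg S n ⊓ Subgroup.normalizer (X : Set L)) (k n)) →
    (∀ n ∈ Subgroup.normalizer (X : Set L), ∀ m ∈ Subgroup.normalizer (X : Set L), ∀ P ∈ QfA A S X, P ≤ Tg S n →
      P ≤ Tg S (m * n) → ∀ x ∈ P, k (m * n) x = k n x + k m (n * x * n⁻¹)) →
    (∀ t ∈ S ⊓ Subgroup.normalizer (X : Set L), S ⊓ Subgroup.normalizer (X : Set L) ∈ QfA A S X →
      ∀ x ∈ S ⊓ Subgroup.normalizer (X : Set L), k t x = 0) →
    ∃ u ∈ X, (∀ x ∈ S ⊓ Subgroup.normalizer (X : Set L), ⁅u, x⁆ ∈ A) ∧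
      ∀ n ∈ Subgroup.normalizer (X : Set L), Tg S n ⊓ Subgroup.normalizer (X : Set L) ∈ QfA A S X →
        ∀ x ∈ Tg S n ⊓ Subgroup.normalizer (X : Set L), ((k n x).toMul : L) = ⁅u, n * x * n⁻¹⁆ * ⁅u, x⁆⁻¹

/-- **target of case B**: `P` centric mod `A`, fully normalized, `J(P/A)` not centric, `c` a cocycle (trivial on `A`) on
a family `Q` containing all `R > P`: `c(n)|_P` is a coboundary. -/
def CaseB (A S : Subgroup L) [IsMulCommutative ↥A] : Prop :=
  ∀ P ∈ Cen A S, FN S P → JA A P ∉ Cen A S → ∀ (Q : Set (Subgroup L)) (c : L → L → Additive ↥A), Fam S Q → Coc S Q c →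
    (∀ g, Tg S g ∈ Q → ∀ a ∈ A, c g a = 0) → (∀ R : Subgroup L, P < R → R ≤ S → R ∈ Q) →
    ∃ u : L → Additive ↥A, HomOn P u ∧ (∀ a ∈ A, u a = 0) ∧
      ∀ n ∈ Subgroup.normalizer (P : Set L), ∀ R : Subgroup L, P < R → R ≤ S ⊓ Subgroup.normalizer (P : Set L) →
        cj n R ≤ S → ∀ x ∈ P, c n x = u (n * x * n⁻¹) - u x

/-- **Theorem U** -/
def ThmU (A S : Subgroup L) [IsMulCommutative ↥A] (d : L → Subgroup L → (L → Additive ↥A) → Prop) : Prop :=
  ∃ v : L → Additive ↥A, HomOn S v ∧ (∀ a ∈ A, v a = 0) ∧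
    ∀ g : L, ∀ P ∈ Cen A S, cj g P ≤ S → d g P (fun x => v (g * x * g⁻¹) - v x)

/-- **Phase 2** (for the group `L/A`): every cocycle on a family containing the centric subgroups is a coboundary. -/
def Phase2 (p : ℕ) (G : Type*) [Group G] (S : Subgroup G) (M : Type*) [AddCommGroup M] : Prop :=
  (∀ m : M, p • m = 0) → ∀ (Q : Set (Subgroup G)) (c : G → G → M), Fam S Q → Cen (⊥ : Subgroup G) S ⊆ Q → Coc S Q c →
    ∃ v : G → M, HomOn S v ∧ ∀ g, Tg S g ∈ Q → ∀ x ∈ Tg S g, c g x = v (g * x * g⁻¹) - v x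

/-! ### Basic lemmas -/

theorem mem_cj {g x : L} {P : Subgroup L} : x ∈ cj g P ↔ g⁻¹ * x * g ∈ P := by
  unfold cj
  rw [Subgroup.mem_map]
  constructor
  · rintro ⟨y, hy, rfl⟩
    have : g⁻¹ * ((MulAut.conj g).toMonoidHom y) * g = y := by
      show g⁻¹ * (g * y * g⁻¹) * g = y
      group
    rwa [this]
  · intro h
    refine ⟨_, h, ?_⟩
    show g * (g⁻¹ * x * g) * g⁻¹ = x
    group

theorem conj_mem_cj {g x : L} {P : Subgroup L} : g * x * g⁻¹ ∈ cj g P ↔ x ∈ P := by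
  rw [mem_cj]
  have : g⁻¹ * (g * x * g⁻¹) * g = x := by group
  rw [this]

theorem cj_one (P : Subgroup L) : cj 1 P = P := by
  ext x; rw [mem_cj]; simp

theorem cj_mul (g h : L) (P : Subgroup L) : cj (g * h) P = cj g (cj h P) := by
  ext x
  rw [mem_cj, mem_cj, mem_cj]
  have : (g * h)⁻¹ * x * (g * h) = h⁻¹ * (g⁻¹ * x * g) * h := by group
  rw [this]

theorem cj_inv_cj (g : L) (P : Subgroup L) : cj g⁻¹ (cj g P) = P := by
  rw [← cj_mul, inv_mul_cancel, cj_one]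

theorem cj_cj_inv (g : L) (P : Subgroup L) : cj g (cj g⁻¹ P) = P := by
  rw [← cj_mul, mul_inv_cancel, cj_one]

theorem cj_mono {g : L} {P R : Subgroup L} (h : P ≤ R) : cj g P ≤ cj g R := Subgroup.map_mono h

theorem cj_le_cj {g : L} {P R : Subgroup L} : cj g P ≤ cj g R ↔ P ≤ R := by
  refine ⟨fun h x hx => ?_, cj_mono⟩
  exact conj_mem_cj.1 (h (conj_mem_cj.2 hx))

theorem cj_le_iff {g : L} {P R : Subgroup L} : cj g P ≤ R ↔ P ≤ cj g⁻¹ R := by
  constructor
  · intro h x hx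
    rw [mem_cj, inv_inv]
    exact h (conj_mem_cj.2 hx)
  · intro h x hx
    have := h (mem_cj.1 hx)
    rw [mem_cj, inv_inv] at this
    have e : g * (g⁻¹ * x * g) * g⁻¹ = x := by group
    rwa [e] at this

theorem cj_self {g : L} {P : Subgroup L} (h : g ∈ P) : cj g P = P := by
  ext x
  rw [mem_cj]
  constructor
  · intro hx
    have := P.mul_mem (P.mul_mem h hx) (P.inv_mem h)
    have e : g * (g⁻¹ * x * g) * g⁻¹ = x := by group
    rwa [e] at this
  · intro hx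
    exact P.mul_mem (P.mul_mem (P.inv_mem h) hx) h

theorem card_cj (g : L) (P : Subgroup L) : Nat.card ↥(cj g P) = Nat.card ↥P :=
  Nat.card_congr (P.equivMapOfInjective _ (MulAut.conj g).injective).symm.toEquiv

theorem mem_normalizer_iff_cj {n : L} {P : Subgroup L} : n ∈ Subgroup.normalizer (P : Set L) ↔ cj n P = P := by
  rw [Subgroup.mem_normalizer_iff]
  constructor
  · intro h
    ext x
    rw [mem_cj]
    have := h (n⁻¹ * x * n)
    rw [show n * (n⁻¹ * x * n) * n⁻¹ = x by group] at this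
    exact this
  · intro h x
    rw [← conj_mem_cj (g := n) (x := x), h]

theorem mem_Tg {S : Subgroup L} {g x : L} : x ∈ Tg S g ↔ x ∈ S ∧ g * x * g⁻¹ ∈ S := by
  unfold Tg
  rw [Subgroup.mem_inf, mem_cj, inv_inv]

theorem Tg_le {S : Subgroup L} {g : L} : Tg S g ≤ S := inf_le_left

theorem le_Tg {S P : Subgroup L} {g : L} : P ≤ Tg S g ↔ P ≤ S ∧ cj g P ≤ S := by
  unfold Tg
  rw [le_inf_iff, cj_le_iff]

theorem cj_Tg_le {S : Subgroup L} {g : L} : cj g (Tg S g) ≤ S := (le_Tg.1 le_rfl).2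

theorem Tg_of_mem {S : Subgroup L} {s : L} (h : s ∈ S) : Tg S s = S := by
  refine le_antisymm Tg_le (le_Tg.2 ⟨le_rfl, ?_⟩)
  rw [cj_self h]

end Cfsg.Agent.H480.Lk
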